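import Groth.Agent.RelPC.BaseChange
import Mathlib.RingTheory.Localization.Away.AdjoinRoot

/-!
# Principal localizations are relatively pseudo-coherent
-/

set_option autoImplicit false

universe u

open CategoryTheory DerivedCategory Polynomial

attribute [local instance] HasDerivedCategory.standard

noncomputable section

namespace Groth.Agent.RelPC

open PseudoCoh

variable (A : Type u) [CommRing A] (g : A)

lemma isSMulRegular_C_mul_X_sub_one : IsSMulRegular A[X] (Polynomial.C g * Polynomial.X - 1) := by
  intro p q h
  simp only [smul_eq_mul] at h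
  rw [← sub_eq_zero]
  have h0 : (Polynomial.C g * Polynomial.X - 1) * (p - q) = 0 := by rw [mul_sub, h, sub_self]
  ext n
  induction n with
  | zero =>
    have := congrArg (fun r => r.coeff 0) h0
    simp [sub_mul, mul_assoc] at this ⊢
    linear_combination -this
  | succ n ih =>
    have := congrArg (fun r => r.coeff (n + 1)) h0
    simp only [sub_mul, mul_assoc, one_mul, Polynomial.coeff_sub, Polynomial.coeff_C_mul, Polynomial.coeff_X_mul,
      Polynomial.coeff_zero] at this ih
    rw [ih, mul_zero, zero_sub, neg_eq_zero] at this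
    simpa using this

theorem exists_presentation_away :
    ∃ α : MvPolynomial (Fin 1) A →ₐ[A] Localization.Away g,
      Function.Surjective α ∧ PCHom (α : MvPolynomial (Fin 1) A →+* Localization.Away g) := by
  obtain ⟨e, he⟩ : ∃ e : MvPolynomial (Fin 1) A →ₐ[A] A[X], Function.Bijective e :=
    ⟨(MvPolynomial.uniqueAlgEquiv A (Fin 1)).toAlgHom, (MvPolynomial.uniqueAlgEquiv A (Fin 1)).bijective⟩
  obtain ⟨ψ, hψ, hker⟩ : ∃ ψ : A[X] →ₐ[A] Localization.Away g, Function.Surjective ψ ∧
      ∀ p, ψ p = 0 ↔ Polynomial.C g * Polynomial.X - 1 ∣ p := by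
    refine ⟨(Localization.awayEquivAdjoin g).symm.toAlgHom.comp (AdjoinRoot.mkₐ (Polynomial.C g * Polynomial.X - 1)),
      fun y => ?_, fun p => ?_⟩
    · obtain ⟨z, hz⟩ := (Localization.awayEquivAdjoin g).symm.surjective y
      obtain ⟨p, hp⟩ := AdjoinRoot.mk_surjective z
      exact ⟨p, (congrArg (Localization.awayEquivAdjoin g).symm hp).trans hz⟩
    · rw [← AdjoinRoot.mk_eq_zero]
      exact map_eq_zero_iff (Localization.awayEquivAdjoin g).symm (Localization.awayEquivAdjoin g).symm.injective
  have hker' : RingHom.ker (ψ : A[X] →+* Localization.Away g) = Ideal.span {Polynomial.C g * Polynomial.X - 1} :=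
    Ideal.ext fun p => (hker p).trans Ideal.mem_span_singleton.symm
  exact ⟨ψ.comp e, hψ.comp he.2,
    pcHom_comp (φ := (e : MvPolynomial (Fin 1) A →+* A[X])) (pcHom_bijective _ he)
      (pcHom_of_ker_eq_span (φ := (ψ : A[X] →+* Localization.Away g)) hψ (isSMulRegular_C_mul_X_sub_one A g) hker')⟩

theorem relPCModuleAll_away : DerCA.IsRelPseudoCoherentModuleAll A (Localization.Away g) (Localization.Away g) := by
  obtain ⟨α, hα, h⟩ := exists_presentation_away A g
  exact (relPCAll_iff α hα _).2 fun d => approx_of_iso (restrictInDIso _ (ModuleCat.of _ (Localization.Away g))).symm (h d)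

/-- localization of a relatively pseudo-coherent object -/
theorem relPC_localization {R : Type u} [CommRing R] [Algebra R A] [Algebra.FiniteType R A] (K : DRing.Cx A) {m : ℤ}
    (h : DerCA.IsRelPseudoCoherent R A m (DRing.toD K)) :
    DerCA.IsRelPseudoCoherent R (Localization.Away g) m
      (DRing.toD ((Fc (algebraMap A (Localization.Away g))).obj K)) := by
  haveI := Groth.Agent.KProjRes.hasLBaseChange (algebraMap A (Localization.Away g))
  obtain ⟨n, β, hβ⟩ := exists_presentation R (Localization.Away g)
  obtain ⟨e⟩ := nonempty_flat_lBaseChangeIso (algebraMap A (Localization.Away g))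
    (RingHom.flat_algebraMap_iff.2 (IsLocalization.flat _ (Submonoid.powers g))) K
  exact (relPC_iff β hβ _ (sub_add_cancel m 1)).2 (approx_of_iso ((DRing.restrictD _).mapIso e)
    ((relPC_iff β hβ _ (sub_add_cancel m 1)).1 (relPC_lBaseChange (relPCModuleAll_away A g) _ m h)))

end Groth.Agent.RelPC
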