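import Groth.Agent.RelPC.Pushout
import Mathlib.RingTheory.TensorProduct.MvPolynomial

/-!
# Presentations over an intermediate algebra
-/

set_option autoImplicit false

universe u

open CategoryTheory DerivedCategory

attribute [local instance] HasDerivedCategory.standard MvPolynomial.algebraMvPolynomial

noncomputable section

namespace Groth.Agent.RelPC

open PseudoCoh

variable {R A B : Type u} [CommRing R] [CommRing A] [CommRing B] [Algebra R A] [Algebra A B] [Algebra R B]
  [IsScalarTower R A B] {n k : ℕ}

/-- the presentation over `R` obtained from presentations of `A` over `R` and of `B` over `A` -/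
theorem exists_trans_presentation (α : MvPolynomial (Fin n) R →ₐ[R] A) (hα : Function.Surjective α)
    (β : MvPolynomial (Fin k) A →ₐ[A] B) (hβ : Function.Surjective β) :
    ∃ (γ : MvPolynomial (Fin (k + n)) R →ₐ[R] B)
      (e : MvPolynomial (Fin (k + n)) R →+* MvPolynomial (Fin k) (MvPolynomial (Fin n) R)),
      Function.Surjective γ ∧ Function.Bijective e ∧
      (γ : MvPolynomial (Fin (k + n)) R →+* B) =
        ((β : MvPolynomial (Fin k) A →+* B).comp (MvPolynomial.map (α : MvPolynomial (Fin n) R →+* A))).comp e := by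
  let e := (MvPolynomial.renameEquiv R finSumFinEquiv.symm).trans (MvPolynomial.sumAlgEquiv R (Fin k) (Fin n))
  refine ⟨((β.restrictScalars R).comp (MvPolynomial.mapAlgHom α)).comp e.toAlgHom, e.toRingEquiv.toRingHom, ?_,
    e.bijective, RingHom.ext fun x => rfl⟩
  exact (hβ.comp (MvPolynomial.map_surjective _ hα)).comp e.surjective

theorem relPC_iff_map (α : MvPolynomial (Fin n) R →ₐ[R] A) (hα : Function.Surjective α)
    (β : MvPolynomial (Fin k) A →ₐ[A] B) (hβ : Function.Surjective β) (K : Dual.D B) {m d : ℤ} (h : d + 1 = m) :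
    DerCA.IsRelPseudoCoherent R B m K ↔
      Approx d ((DRing.restrictD ((β : MvPolynomial (Fin k) A →+* B).comp
        (MvPolynomial.map (α : MvPolynomial (Fin n) R →+* A)))).obj K) := by
  obtain ⟨γ, e, hγ, he, hγe⟩ := exists_trans_presentation α hα β hβ
  rw [relPC_iff γ hγ K h, hγe]
  exact approx_comp_iff (pcHom_bijective e he) _ K d

theorem pcHom_map (α : MvPolynomial (Fin n) R →ₐ[R] A) (h : PCHom (α : MvPolynomial (Fin n) R →+* A)) :
    PCHom (MvPolynomial.map (σ := Fin k) (α : MvPolynomial (Fin n) R →+* A)) := by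
  letI := (α : MvPolynomial (Fin n) R →+* A).toAlgebra
  exact pcHom_pushout (MvPolynomial (Fin n) R) A (MvPolynomial (Fin k) (MvPolynomial (Fin n) R))
    (MvPolynomial (Fin k) A) h

theorem pcHom_of_relPCModuleAll (α : MvPolynomial (Fin n) R →ₐ[R] A) (hα : Function.Surjective α)
    (h : DerCA.IsRelPseudoCoherentModuleAll R A A) : PCHom (α : MvPolynomial (Fin n) R →+* A) := fun d =>
  approx_of_iso (restrictInDIso _ (ModuleCat.of A A)) ((relPCAll_iff α hα _).1 h d)

end Groth.Agent.RelPC
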