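import Groth.Agent.RelPC.Tensor
import Groth.Agent.RelPC.Poly

/-!
# Base change of relative pseudo-coherence
-/

set_option autoImplicit false

universe u

open CategoryTheory DerivedCategory

attribute [local instance] HasDerivedCategory.standard MvPolynomial.algebraMvPolynomial

noncomputable section

namespace Groth.Agent.RelPC

open PseudoCoh

theorem relPC_lBaseChange {R A B : Type u} [CommRing R] [CommRing A] [CommRing B] [Algebra R A] [Algebra A B]
    [Algebra R B] [IsScalarTower R A B] [Algebra.FiniteType R A] [Algebra.FiniteType A B]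
    (hB : DerCA.IsRelPseudoCoherentModuleAll A B B) [hi : DRing.HasLBaseChange (algebraMap A B)] (K : Dual.D A) (m : ℤ)
    (h : DerCA.IsRelPseudoCoherent R A m K) :
    DerCA.IsRelPseudoCoherent R B m ((DRing.LBaseChange (algebraMap A B)).obj K) := by
  obtain ⟨n, α, hα⟩ := exists_presentation R A
  obtain ⟨k, β, hβ⟩ := exists_presentation A B
  have hKS := (relPC_iff α hα K (sub_add_cancel m 1)).1 h
  rw [relPC_iff_map α hα β hβ _ (sub_add_cancel m 1)]
  letI := (α : MvPolynomial (Fin n) R →+* A).toAlgebra
  suffices key : ∀ (φ : A →+* B) (_ : DRing.HasLBaseChange φ),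
      φ = (β : MvPolynomial (Fin k) A →+* B).comp (algebraMap A (MvPolynomial (Fin k) A)) →
      Approx (m - 1) ((DRing.restrictD ((β : MvPolynomial (Fin k) A →+* B).comp
        (MvPolynomial.map (α : MvPolynomial (Fin n) R →+* A)))).obj ((DRing.LBaseChange φ).obj K)) from
    key (algebraMap A B) hi β.comp_algebraMap.symm
  rintro _ hi' rfl
  exact approx_lBaseChange_via (MvPolynomial (Fin n) R) A (MvPolynomial (Fin k) (MvPolynomial (Fin n) R))
    (MvPolynomial (Fin k) A) (β : MvPolynomial (Fin k) A →+* B) (pcHom_of_relPCModuleAll β hβ hB) K hKS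

end Groth.Agent.RelPC
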