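import Groth.Agent.PseudoCoh.Restrict
import Groth.Agent.PseudoCoh.Coherent
import Mathlib.RingTheory.TensorProduct.MvPolynomial
import Mathlib.RingTheory.AdjoinRoot
import Mathlib.RingTheory.IntegralClosure.IsIntegralClosure.Basic

/-!
# Pseudo-coherence relative to presentations
-/

set_option autoImplicit false

universe u

open CategoryTheory CategoryTheory.Limits CategoryTheory.Pretriangulated DerivedCategory DerivedCategory.TStructure

attribute [local instance] HasDerivedCategory.standard

noncomputable section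

namespace Groth.Agent.RelPC

open PseudoCoh

variable {A B C : Type u} [CommRing A] [CommRing B] [CommRing C]

/-- restriction of scalars in the derived category composes -/
def restrictDCompIso (φ : A →+* B) (ψ : B →+* C) (K : Dual.D C) :
    (DRing.restrictD φ).obj ((DRing.restrictD ψ).obj K) ≅ (DRing.restrictD (ψ.comp φ)).obj K :=
  (DRing.restrictD φ).mapIso ((DRing.restrictD ψ).mapIso (DerivedCategory.Q.objObjPreimageIso K).symm ≪≫
      (ModuleCat.restrictScalars.{u} ψ).mapDerivedCategoryFactors.app _) ≪≫
    (ModuleCat.restrictScalars.{u} φ).mapDerivedCategoryFactors.app _ ≪≫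
    DerivedCategory.Q.mapIso
      ((NatIso.mapHomologicalComplex (ModuleCat.restrictScalarsComp.{u} φ ψ) (ComplexShape.up ℤ)).app
        (DerivedCategory.Q.objPreimage K)).symm ≪≫
    (((ModuleCat.restrictScalars.{u} (ψ.comp φ)).mapDerivedCategoryFactors.app _).symm ≪≫
      (DRing.restrictD (ψ.comp φ)).mapIso (DerivedCategory.Q.objObjPreimageIso K))

/-- restriction of a module placed in degree zero -/
def restrictInDIso (φ : A →+* B) (M : ModuleCat.{u} B) :
    (DRing.restrictD φ).obj (Dual.inD B M) ≅ Dual.inD A ((ModuleCat.restrictScalars.{u} φ).obj M) :=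
  ((ModuleCat.restrictScalars.{u} φ).mapDerivedCategorySingleFunctor 0).app M

theorem pcHom_comp {φ : A →+* B} {ψ : B →+* C} (hφ : PCHom φ) (hψ : PCHom ψ) : PCHom (ψ.comp φ) := fun n =>
  approx_of_iso ((restrictInDIso φ _) ≪≫ (DerivedCategory.singleFunctor (ModuleCat.{u} A) 0).mapIso
      (X := (ModuleCat.restrictScalars.{u} φ).obj ((ModuleCat.restrictScalars.{u} ψ).obj (ModuleCat.of C C)))
      (Y := (ModuleCat.restrictScalars.{u} (ψ.comp φ)).obj (ModuleCat.of C C))
      ((ModuleCat.restrictScalarsComp.{u} φ ψ).app (ModuleCat.of C C)).symm)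
    (approx_restrict φ hφ (hψ n))

theorem approx_comp_iff {φ : A →+* B} (hφ : PCHom φ) (ψ : B →+* C) (K : Dual.D C) (n : ℤ) :
    Approx n ((DRing.restrictD (ψ.comp φ)).obj K) ↔ Approx n ((DRing.restrictD ψ).obj K) :=
  ⟨fun h => approx_of_restrict φ hφ (approx_of_iso (restrictDCompIso φ ψ K).symm h),
    fun h => approx_of_iso (restrictDCompIso φ ψ K) (approx_restrict φ hφ h)⟩

/-- a finite projective algebra is pseudo-coherent -/
theorem pcHom_finiteProjective [Algebra A B] [Module.Finite A B] [Module.Projective A B] :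
    PCHom (algebraMap A B) :=
  pcHom_of_isPseudoCoherentModule' ((pc'_iff _).2 (approx_inD_of_projective B))

theorem pcHom_bijective (φ : A →+* B) (h : Function.Bijective φ) : PCHom φ := by
  letI := φ.toAlgebra
  let e : A ≃ₗ[A] B := LinearEquiv.ofBijective (Algebra.linearMap A B) h
  haveI := Module.Finite.equiv e
  haveI := Module.Projective.of_equiv e
  exact pcHom_finiteProjective

/-- a quotient by a regular element is pseudo-coherent -/
theorem pcHom_of_ker_eq_span {φ : A →+* B} (hφ : Function.Surjective φ) {x : A} (hx : IsSMulRegular A x)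
    (hker : RingHom.ker φ = Ideal.span {x}) : PCHom φ := by
  let f : A →ₗ[A] A := LinearMap.mulLeft A x
  let g : A →ₗ[A] (ModuleCat.restrictScalars.{u} φ).obj (ModuleCat.of B B) :=
    { toFun := fun p => (φ p : B)
      map_add' := fun p q => (φ.map_add p q : φ (p + q) = _)
      map_smul' := fun p q => (φ.map_mul p q : φ (p * q) = _) }
  have hx0 : φ x = 0 := by
    rw [← RingHom.mem_ker, hker]; exact Ideal.mem_span_singleton_self x
  let S : ShortComplex (ModuleCat.{u} A) := ShortComplex.mk (ModuleCat.ofHom f) (ModuleCat.ofHom g)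
    (ModuleCat.hom_ext (LinearMap.ext fun p => (show φ (x * (p : A)) = 0 by rw [map_mul, hx0, zero_mul])))
  have hS : S.ShortExact :=
    { exact := (ShortComplex.moduleCat_exact_iff _).2 fun p hp => by
        obtain ⟨q, hq⟩ := Ideal.mem_span_singleton.1 (hker ▸ (RingHom.mem_ker.2 hp) : (p : A) ∈ Ideal.span {x})
        exact ⟨q, hq.symm⟩
      mono_f := (ModuleCat.mono_iff_injective _).2 hx
      epi_g := (ModuleCat.epi_iff_surjective _).2 hφ }
  exact fun n => approx_obj₃ _ hS.singleTriangle_distinguished n
    (approx_inD_of_projective A _) (approx_inD_of_projective A _)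

theorem pcHom_polynomial_evalRingHom (a : A) : PCHom (Polynomial.evalRingHom a) :=
  pcHom_of_ker_eq_span (fun y => ⟨Polynomial.C y, Polynomial.eval_C⟩)
    (Polynomial.monic_X_sub_C a).isRegular.left (Ideal.ext fun p => by
      rw [RingHom.mem_ker, Ideal.mem_span_singleton, Polynomial.dvd_iff_isRoot]; rfl)

/-- evaluation is pseudo-coherent -/
theorem pcHom_eval : ∀ {k : ℕ} (a : Fin k → A), PCHom (MvPolynomial.eval a) := by
  intro k
  induction k with
  | zero =>
    intro a
    refine pcHom_bijective _ ⟨Function.LeftInverse.injective (g := MvPolynomial.C) fun p => ?_,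
      fun y => ⟨MvPolynomial.C y, MvPolynomial.eval_C y⟩⟩
    exact RingHom.congr_fun (MvPolynomial.ringHom_ext (f := MvPolynomial.C.comp (MvPolynomial.eval a))
      (g := RingHom.id _) (fun r => by simp) (fun i => i.elim0)) p
  | succ k ih =>
    intro a
    have e : MvPolynomial.eval a = (MvPolynomial.eval (Fin.tail a)).comp
        ((Polynomial.evalRingHom (MvPolynomial.C (a 0))).comp
          (MvPolynomial.finSuccEquiv A k : MvPolynomial (Fin (k + 1)) A →+* Polynomial (MvPolynomial (Fin k) A))) := by
      refine MvPolynomial.ringHom_ext (fun r => ?_) fun i => ?_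
      · simp [MvPolynomial.finSuccEquiv_apply]
      · induction i using Fin.cases with
        | zero => simp [MvPolynomial.finSuccEquiv_X_zero]
        | succ j => simp [MvPolynomial.finSuccEquiv_X_succ, Fin.tail]
    rw [e]
    exact pcHom_comp (pcHom_comp (pcHom_bijective _ (MvPolynomial.finSuccEquiv A k).bijective)
      (pcHom_polynomial_evalRingHom _)) (ih _)

/-- polynomial rings over a finite free algebra -/
theorem pcHom_mvPolynomial_map [Algebra A B] [Module.Finite A B] [Module.Projective A B] (σ : Type) :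
    PCHom (MvPolynomial.map (σ := σ) (algebraMap A B)) := by
  letI : Algebra (MvPolynomial σ A) (MvPolynomial σ B) := MvPolynomial.algebraMvPolynomial
  let e := (Algebra.IsPushout.out : IsBaseChange (MvPolynomial σ A)
    (IsScalarTower.toAlgHom A B (MvPolynomial σ B)).toLinearMap).equiv
  haveI := Module.Finite.equiv e
  haveI := Module.Projective.of_equiv e
  exact pcHom_finiteProjective (A := MvPolynomial σ A) (B := MvPolynomial σ B)

/-- integral elements are the images of elements of a finite free algebra -/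
theorem exists_free_cover : ∀ {k : ℕ} (ι : A →+* B) (y : Fin k → B), (∀ j, ι.IsIntegralElem (y j)) →
    ∃ (T : Type u) (_ : CommRing T) (φ : A →+* T) (h : T →+* B) (t : Fin k → T),
      PCHom φ ∧ (∀ {σ : Type}, PCHom (MvPolynomial.map (σ := σ) φ)) ∧ h.comp φ = ι ∧ ∀ j, h (t j) = y j := by
  suffices key : ∀ {k : ℕ} (ι : A →+* B) (y : Fin k → B), (∀ j, ι.IsIntegralElem (y j)) →
    ∃ (T : Type u) (_ : CommRing T) (_ : Algebra A T) (_ : Module.Finite A T) (_ : Module.Free A T)
      (h : T →+* B) (t : Fin k → T), h.comp (algebraMap A T) = ι ∧ ∀ j, h (t j) = y j by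
    intro k ι y hy
    obtain ⟨T, _, _, _, _, h, t, h1, h2⟩ := key ι y hy
    exact ⟨T, inferInstance, algebraMap A T, h, t, pcHom_finiteProjective, fun {σ} => pcHom_mvPolynomial_map σ, h1, h2⟩
  intro k
  induction k with
  | zero => exact fun ι y _ => ⟨A, inferInstance, inferInstance, inferInstance, inferInstance, ι, Fin.elim0,
      RingHom.ext fun _ => rfl, fun j => j.elim0⟩
  | succ k ih =>
    intro ι y hy
    obtain ⟨T, _, _, _, _, h, t, h1, h2⟩ := ih ι (Fin.tail y) fun j => hy _
    obtain ⟨p, hp, hp'⟩ := hy 0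
    let q : Polynomial T := p.map (algebraMap A T)
    have hq : q.Monic := hp.map _
    haveI := hq.finite_adjoinRoot
    haveI := hq.free_adjoinRoot
    refine ⟨AdjoinRoot q, inferInstance, inferInstance, Module.Finite.trans T (AdjoinRoot q),
      Module.Free.trans (R := A) (S := T) (M := AdjoinRoot q),
      AdjoinRoot.lift h (y 0) (by rw [Polynomial.eval₂_map, h1]; exact hp'),
      Fin.cons (AdjoinRoot.root q) (fun j => AdjoinRoot.of q (t j)), ?_, ?_⟩
    · rw [IsScalarTower.algebraMap_eq A T (AdjoinRoot q), ← RingHom.comp_assoc, AdjoinRoot.algebraMap_eq,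
        AdjoinRoot.lift_comp_of, h1]
    · intro j
      induction j using Fin.cases with
      | zero => simp
      | succ j => simpa [Fin.tail] using h2 j

/-- adding variables with integral images -/
theorem approx_eval₂_iff {k : ℕ} (ι : A →+* B) (y : Fin k → B) (hy : ∀ j, ι.IsIntegralElem (y j))
    (K : Dual.D B) (n : ℤ) :
    Approx n ((DRing.restrictD ι).obj K) ↔ Approx n ((DRing.restrictD (MvPolynomial.eval₂Hom ι y)).obj K) := by
  obtain ⟨T, _, φ, h, t, hφ, hmap, rfl, ht⟩ := exists_free_cover ι (fun j => y j) hy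
  have hψ : PCHom ((MvPolynomial.eval t).comp (MvPolynomial.map (σ := Fin k) φ)) :=
    pcHom_comp hmap (pcHom_eval t)
  rw [approx_comp_iff hφ, show MvPolynomial.eval₂Hom (h.comp φ) y =
    h.comp ((MvPolynomial.eval t).comp (MvPolynomial.map (σ := Fin k) φ)) from
    MvPolynomial.ringHom_ext (fun r => by simp) (fun i => by simp [ht]), approx_comp_iff hψ]

theorem pcHom_eval_comp {k : ℕ} (g : Fin k → B) (e : A →+* MvPolynomial (Fin k) B) (he : Function.Bijective e) :
    PCHom ((MvPolynomial.eval g).comp e) :=
  pcHom_comp (pcHom_bijective e he) (pcHom_eval g)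

/-- comparison of presentations along a finite homomorphism -/
theorem approx_presentation_iff {R A B : Type u} [CommRing R] [CommRing A] [CommRing B] [Algebra R A] [Algebra R B]
    (f : A →ₐ[R] B) (hf : (f : A →+* B).Finite) {n k : ℕ} (α : MvPolynomial (Fin n) R →ₐ[R] A)
    (hα : Function.Surjective α) (β : MvPolynomial (Fin k) R →ₐ[R] B) (hβ : Function.Surjective β)
    (K : Dual.D B) (d : ℤ) :
    Approx d ((DRing.restrictD (α : MvPolynomial (Fin n) R →+* A)).obj ((DRing.restrictD (f : A →+* B)).obj K)) ↔
      Approx d ((DRing.restrictD (β : MvPolynomial (Fin k) R →+* B)).obj K) := by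
  let ι : MvPolynomial (Fin n) R →+* B := (f : A →+* B).comp α
  have hι : ι.Finite := hf.comp (RingHom.Finite.of_surjective _ hα)
  choose g hg using fun i => hβ (f (α (MvPolynomial.X i)))
  obtain ⟨sw, hsb, hsC, hsX, hsCX⟩ : ∃ e : MvPolynomial (Fin k) (MvPolynomial (Fin n) R) →+*
      MvPolynomial (Fin n) (MvPolynomial (Fin k) R), Function.Bijective e ∧
      (∀ a, e (.C (.C a)) = .C (.C a)) ∧ (∀ j, e (.X j) = .C (.X j)) ∧ ∀ i, e (.C (.X i)) = .X i :=
    ⟨(MvPolynomial.commAlgEquiv R (Fin k) (Fin n)).toRingEquiv.toRingHom,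
      (MvPolynomial.commAlgEquiv R (Fin k) (Fin n)).toRingEquiv.bijective,
      fun a => by simp, fun j => MvPolynomial.commAlgEquiv_X .., fun i => MvPolynomial.commAlgEquiv_C_X ..⟩
  have he : MvPolynomial.eval₂Hom ι (fun j => β (MvPolynomial.X j)) =
      (β : MvPolynomial (Fin k) R →+* B).comp ((MvPolynomial.eval g).comp sw) := by
    refine MvPolynomial.ringHom_ext (fun r => ?_) fun j => by simp [hsX]
    induction r using MvPolynomial.induction_on with
    | C a =>
      simp only [MvPolynomial.eval₂Hom_C, RingHom.comp_apply, RingHom.coe_coe, hsC, MvPolynomial.eval_C, ι]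
      simp [← MvPolynomial.algebraMap_eq]
    | add p q hp hq => simp only [map_add, hp, hq]
    | mul_X p i hp =>
      simp only [map_mul, hp]
      congr 1
      simp [ι, hg, hsCX]
  have hsw := pcHom_eval_comp g sw hsb
  have h1 := approx_eval₂_iff ι (fun j => β (MvPolynomial.X j)) (fun j => hι.to_isIntegral _) K d
  have h2 := approx_comp_iff hsw (β : MvPolynomial (Fin k) R →+* B) K d
  rw [he] at h1
  have h3 := (⟨approx_of_iso (restrictDCompIso _ _ K), approx_of_iso (restrictDCompIso _ _ K).symm⟩ :
    Approx d ((DRing.restrictD (α : MvPolynomial (Fin n) R →+* A)).obj ((DRing.restrictD (f : A →+* B)).obj K)) ↔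
      Approx d ((DRing.restrictD ι).obj K))
  exact (h3.trans h1).trans h2

end Groth.Agent.RelPC
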