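import Groth.Agent.RelPC.Away
import Mathlib.RingTheory.Localization.BaseChange

/-!
# Relative pseudo-coherence is local for principal coverings
-/

set_option autoImplicit false

universe u

open CategoryTheory CategoryTheory.Limits DerivedCategory DerivedCategory.TStructure
open scoped TensorProduct

attribute [local instance] HasDerivedCategory.standard

noncomputable section

namespace Groth.Agent.RelPC

open PseudoCoh

/-- localizations of polynomial algebras are relatively pseudo-coherent -/
theorem exists_presentation_away_poly (R : Type u) [CommRing R] {n : ℕ} (g : MvPolynomial (Fin n) R) :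
    ∃ (k : ℕ) (δ : MvPolynomial (Fin k) R →ₐ[R] Localization.Away g),
      Function.Surjective δ ∧ PCHom (δ : MvPolynomial (Fin k) R →+* Localization.Away g) := by
  obtain ⟨α, hα, hpc⟩ := exists_presentation_away (MvPolynomial (Fin n) R) g
  obtain ⟨δ, e, hδ, he, hδe⟩ := exists_trans_presentation (AlgHom.id R (MvPolynomial (Fin n) R)) Function.surjective_id α hα
  refine ⟨1 + n, δ, hδ, ?_⟩
  rw [hδe]
  exact pcHom_comp (pcHom_bijective e he) (pcHom_comp (pcHom_bijective _
    ⟨MvPolynomial.map_injective _ Function.injective_id, MvPolynomial.map_surjective _ Function.surjective_id⟩) hpc)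

variable {S A : Type u} [CommRing S] [CommRing A] [Algebra S A]

/-- extension of a restriction to a localization at an element of the kernel vanishes -/
theorem isZero_extend_restrict {h : S} (hh : algebraMap S A h = 0) (M : ModuleCat.{u} A) :
    IsZero ((ModuleCat.extendScalars.{u, u, u} (algebraMap S (Localization.Away h))).obj
      ((ModuleCat.restrictScalars.{u} (algebraMap S A)).obj M)) := by
  obtain ⟨e⟩ := nonempty_extendEquiv (S := Localization.Away h) ((ModuleCat.restrictScalars.{u} (algebraMap S A)).obj M)
  haveI : Subsingleton (Localization.Away h ⊗[S] ((ModuleCat.restrictScalars.{u} (algebraMap S A)).obj M)) := by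
    refine subsingleton_of_forall_eq 0 fun z => ?_
    induction z using TensorProduct.induction_on with
    | zero => rfl
    | add p q hp hq => rw [hp, hq, add_zero]
    | tmul s x =>
      obtain ⟨u, hu⟩ := (IsLocalization.Away.algebraMap_isUnit (S := Localization.Away h) h).exists_right_inv
      have hx : h • x = 0 := (show algebraMap S A h • (show M from x) = 0 by rw [hh, zero_smul])
      rw [show s = h • (s * u) by rw [Algebra.smul_def, mul_left_comm, hu, mul_one], TensorProduct.smul_tmul, hx,
        TensorProduct.tmul_zero]
  exact @ModuleCat.isZero_of_subsingleton _ _ _ e.toEquiv.subsingleton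

/-- descent of relative pseudo-coherence along a principal covering -/
theorem approx_of_away {R A : Type u} [CommRing R] [CommRing A] [Algebra R A] {n : ℕ}
    (α : MvPolynomial (Fin n) R →ₐ[R] A) (hα : Function.Surjective α) (K : DRing.Cx A) {r : ℕ} (f : Fin r → A)
    (hf : Ideal.span (Set.range f) = ⊤) {d m : ℤ} (hd : d + 1 = m)
    (h : ∀ i, DerCA.IsRelPseudoCoherent R (Localization.Away (f i)) m
      (DRing.toD ((Fc (algebraMap A (Localization.Away (f i)))).obj K))) :
    Approx d ((DRing.restrictD (α : MvPolynomial (Fin n) R →+* A)).obj (DRing.toD K)) := by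
  letI := (α : MvPolynomial (Fin n) R →+* A).toAlgebra
  haveI : IsScalarTower R (MvPolynomial (Fin n) R) A := IsScalarTower.of_algebraMap_eq' α.comp_algebraMap.symm
  let E := ((ModuleCat.restrictScalars.{u} (algebraMap (MvPolynomial (Fin n) R) A)).mapHomologicalComplex (ComplexShape.up ℤ)).obj K
  refine approx_of_iso (restrictToDIso (algebraMap (MvPolynomial (Fin n) R) A) K).symm ?_
  choose g hg using fun i => hα (f i)
  obtain ⟨c, hc⟩ := (Ideal.mem_span_range_iff_exists_fun).1 (hf ▸ (Submodule.mem_top : (1 : A) ∈ ⊤))
  choose c' hc' using fun i => hα (c i)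
  let h₀ := 1 - ∑ i, c' i * g i
  have hh : algebraMap (MvPolynomial (Fin n) R) A h₀ = 0 := by
    change α h₀ = 0
    simp [h₀, map_sum, hc', hg, hc]
  have hspan : Ideal.span (Set.range (Fin.snoc g h₀ : Fin (r + 1) → MvPolynomial (Fin n) R)) = ⊤ := by
    rw [Ideal.eq_top_iff_one, show (1 : MvPolynomial (Fin n) R) = h₀ + ∑ i, c' i * g i by simp [h₀]]
    refine add_mem (Ideal.subset_span ⟨Fin.last r, Fin.snoc_last _ _⟩) (sum_mem fun i _ => Ideal.mul_mem_left _ _ ?_)
    exact Ideal.subset_span ⟨i.castSucc, Fin.snoc_castSucc _ _ _⟩
  haveI : ∀ i, Module.Flat (MvPolynomial (Fin n) R) (Localization.Away ((Fin.snoc g h₀ : Fin (r + 1) → _) i)) :=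
    fun i => IsLocalization.flat _ (Submonoid.powers ((Fin.snoc g h₀ : Fin (r + 1) → _) i))
  refine approx_descent (isDescentFamily_away _ hspan) E d fun i => ?_
  induction i using Fin.lastCases with
  | last =>
    rw [Fin.snoc_last]
    refine approx_of_isLE (t.isLE_of_isZero (DerivedCategory.Q.map_isZero ?_) d)
    rw [IsZero.iff_id_eq_zero]
    exact HomologicalComplex.hom_ext _ _ fun j => (isZero_extend_restrict hh (K.X j)).eq_of_src _ _
  | cast j =>
    rw [Fin.snoc_castSucc]
    have hj := h j
    rw [← hg j] at hj
    change DerCA.IsRelPseudoCoherent R (Localization.Away (algebraMap (MvPolynomial (Fin n) R) A (g j))) m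
      (DRing.toD ((Fc (algebraMap A (Localization.Away (algebraMap (MvPolynomial (Fin n) R) A (g j))))).obj K)) at hj
    generalize g j = g at hj ⊢
    haveI : IsLocalization (Algebra.algebraMapSubmonoid A (Submonoid.powers g))
        (Localization.Away (algebraMap (MvPolynomial (Fin n) R) A g)) := by
      rw [Algebra.algebraMapSubmonoid, Submonoid.map_powers]; infer_instance
    letI : Algebra (Localization.Away g) (Localization.Away (algebraMap (MvPolynomial (Fin n) R) A g)) :=
      localizationAlgebra (Submonoid.powers g) A
    haveI : IsScalarTower (MvPolynomial (Fin n) R) (Localization.Away g)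
        (Localization.Away (algebraMap (MvPolynomial (Fin n) R) A g)) :=
      isScalarTower_localizationAlgebra (Submonoid.powers g) A
    haveI := (Algebra.isPushout_of_isLocalization (R := MvPolynomial (Fin n) R) (S := Submonoid.powers g)
      (A := Localization.Away g) (T := A) (B := Localization.Away (algebraMap (MvPolynomial (Fin n) R) A g))).symm
    refine approx_of_iso (DerivedCategory.Q.mapIso ((NatIso.mapHomologicalComplex (pushoutIso (MvPolynomial (Fin n) R) A
      (Localization.Away g) (Localization.Away (algebraMap (MvPolynomial (Fin n) R) A g))) (ComplexShape.up ℤ)).app K)).symm ?_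
    refine approx_of_iso (restrictToDIso (algebraMap (Localization.Away g)
      (Localization.Away (algebraMap (MvPolynomial (Fin n) R) A g)))
      ((Fc (algebraMap A (Localization.Away (algebraMap (MvPolynomial (Fin n) R) A g)))).obj K)) ?_
    obtain ⟨k, δ, hδ, hpc⟩ := exists_presentation_away_poly R g
    refine (approx_comp_iff hpc _ _ d).1 ?_
    haveI : IsScalarTower R (Localization.Away g) (Localization.Away (algebraMap (MvPolynomial (Fin n) R) A g)) :=
      IsScalarTower.to₁₃₄ R (MvPolynomial (Fin n) R) _ _
    refine (relPC_iff ((IsScalarTower.toAlgHom R (Localization.Away g) _).comp δ) ?_ _ hd).1 hj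
    intro y
    obtain ⟨⟨a, ⟨_, k, rfl⟩⟩, ha⟩ := IsLocalization.surj (Submonoid.powers (algebraMap (MvPolynomial (Fin n) R) A g)) y
    obtain ⟨a', rfl⟩ := hα a
    obtain ⟨z, hz⟩ := hδ (IsLocalization.mk' (Localization.Away g) a' (⟨g ^ k, k, rfl⟩ : Submonoid.powers g))
    refine ⟨z, ?_⟩
    rw [AlgHom.comp_apply, hz]
    refine ((IsLocalization.map_units (Localization.Away (algebraMap (MvPolynomial (Fin n) R) A g))
      (⟨_, k, rfl⟩ : Submonoid.powers (algebraMap (MvPolynomial (Fin n) R) A g))).mul_left_inj).1 (Eq.trans ?_ ha.symm)
    rw [IsScalarTower.coe_toAlgHom']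
    simp only
    rw [← map_pow, ← IsScalarTower.algebraMap_apply,
      IsScalarTower.algebraMap_apply (MvPolynomial (Fin n) R) (Localization.Away g)
        (Localization.Away (algebraMap (MvPolynomial (Fin n) R) A g)) (g ^ k), ← map_mul, show IsLocalization.mk' (Localization.Away g) a' (⟨g ^ k, k, rfl⟩ : Submonoid.powers g) * algebraMap _ _ (g ^ k) = algebraMap (MvPolynomial (Fin n) R) (Localization.Away g) a' from IsLocalization.mk'_spec _ _ _,
      ← IsScalarTower.algebraMap_apply]
    · exact (IsScalarTower.algebraMap_apply (MvPolynomial (Fin n) R) A _ a')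

end Groth.Agent.RelPC
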