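import Groth.Agent.RelPC.Basic
import Groth.Prelude.Def_DerCA
import Mathlib.RingTheory.Finiteness.Basic

/-!
# Relative pseudo-coherence in terms of one presentation
-/

set_option autoImplicit false

universe u

open CategoryTheory CategoryTheory.Limits DerivedCategory DerivedCategory.TStructure

attribute [local instance] HasDerivedCategory.standard

noncomputable section

namespace Groth.Agent.RelPC

open PseudoCoh

variable {R A B : Type u} [CommRing R] [CommRing A] [CommRing B] [Algebra R A] [Algebra R B]

theorem restrictD_id_iso (K : Dual.D A) : Nonempty ((DRing.restrictD (RingHom.id A)).obj K ≅ K) :=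
  ⟨(DRing.restrictD (RingHom.id A)).mapIso (DerivedCategory.Q.objObjPreimageIso K).symm ≪≫
    (ModuleCat.restrictScalars.{u} (RingHom.id A)).mapDerivedCategoryFactors.app _ ≪≫
    DerivedCategory.Q.mapIso
      ((NatIso.mapHomologicalComplex (ModuleCat.restrictScalarsId.{u} A) (ComplexShape.up ℤ)).app _ ≪≫
        (Functor.mapHomologicalComplexIdIso (ModuleCat.{u} A) (ComplexShape.up ℤ)).app _) ≪≫
    DerivedCategory.Q.objObjPreimageIso K⟩

/-- two presentations give the same notion -/
theorem approx_via_iff {n k : ℕ} (α : MvPolynomial (Fin n) R →ₐ[R] A) (hα : Function.Surjective α)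
    (β : MvPolynomial (Fin k) R →ₐ[R] A) (hβ : Function.Surjective β) (K : Dual.D A) (d : ℤ) :
    Approx d ((DRing.restrictD (α : MvPolynomial (Fin n) R →+* A)).obj K) ↔
      Approx d ((DRing.restrictD (β : MvPolynomial (Fin k) R →+* A)).obj K) := by
  obtain ⟨e⟩ := restrictD_id_iso K
  exact Iff.trans ⟨approx_of_iso ((DRing.restrictD _).mapIso e).symm, approx_of_iso ((DRing.restrictD _).mapIso e)⟩
    (approx_presentation_iff (AlgHom.id R A) (RingHom.Finite.id A) α hα β hβ K d)

theorem relPC_iff {n : ℕ} (α : MvPolynomial (Fin n) R →ₐ[R] A) (hα : Function.Surjective α)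
    (K : Dual.D A) {m d : ℤ} (h : d + 1 = m) :
    DerCA.IsRelPseudoCoherent R A m K ↔ Approx d ((DRing.restrictD (α : MvPolynomial (Fin n) R →+* A)).obj K) :=
  ⟨fun ⟨_, β, hβ, hK⟩ => (approx_via_iff α hα β hβ K d).2 ((approx_iff h _).1 hK),
    fun hK => ⟨n, α, hα, (approx_iff h _).2 hK⟩⟩

theorem relPCAll_iff {n : ℕ} (α : MvPolynomial (Fin n) R →ₐ[R] A) (hα : Function.Surjective α) (K : Dual.D A) :
    DerCA.IsRelPseudoCoherentAll R A K ↔ ∀ d, Approx d ((DRing.restrictD (α : MvPolynomial (Fin n) R →+* A)).obj K) :=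
  ⟨fun h d => (relPC_iff α hα K rfl).1 (h (d + 1)),
    fun h m => (relPC_iff α hα K (sub_add_cancel m 1)).2 (h _)⟩

theorem exists_presentation (R A : Type u) [CommRing R] [CommRing A] [Algebra R A] [Algebra.FiniteType R A] :
    ∃ (n : ℕ) (α : MvPolynomial (Fin n) R →ₐ[R] A), Function.Surjective α :=
  Algebra.FiniteType.iff_quotient_mvPolynomial''.1 inferInstance

variable {P : Type u} [CommRing P] (φ : P →+* A)

lemma isZero_homology_inD (M : ModuleCat.{u} P) {i : ℤ} (hi : 0 < i) :
    IsZero ((DerivedCategory.homologyFunctor (ModuleCat.{u} P) i).obj (Dual.inD P M)) :=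
  (DerivedCategory.isLE_iff _ _).1 (isLE_inD M) i hi

/-- homology of a module placed in degree zero -/
def inDHomologyIso (M : ModuleCat.{u} P) :
    (DerivedCategory.homologyFunctor (ModuleCat.{u} P) 0).obj (Dual.inD P M) ≅ M :=
  (DerivedCategory.singleFunctorCompHomologyFunctorIso (ModuleCat.{u} P) 0).app M

theorem finite_iff_approx (M : Type u) [AddCommGroup M] [Module A M] :
    @Module.Finite P M _ _ (Module.compHom M φ) ↔ Approx (-1) ((DRing.restrictD φ).obj (Dual.inD A M)) := by
  let N := (ModuleCat.restrictScalars.{u} φ).obj (ModuleCat.of A M)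
  refine (show Module.Finite P N ↔ Approx (-1) (Dual.inD P N) from ⟨fun h => ?_, fun h => ?_⟩).trans
    ⟨approx_of_iso (restrictInDIso φ (ModuleCat.of A M)).symm, approx_of_iso (restrictInDIso φ (ModuleCat.of A M))⟩
  · haveI : t.IsLE (Dual.inD P N) 0 := isLE_inD N
    exact approx_of_finite (show (-1 : ℤ) + 1 = 0 by omega) (haveI := h; Module.Finite.equiv (inDHomologyIso N).toLinearEquiv.symm)
  · haveI := finite_HD (show (-1 : ℤ) + 1 = 0 by omega) h fun i hi => isZero_homology_inD N hi
    exact Module.Finite.equiv (inDHomologyIso N).toLinearEquiv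

theorem fp_iff_approx (M : Type u) [AddCommGroup M] [Module A M] :
    @Module.FinitePresentation P M _ _ (Module.compHom M φ) ↔ Approx (-2) ((DRing.restrictD φ).obj (Dual.inD A M)) := by
  let N := (ModuleCat.restrictScalars.{u} φ).obj (ModuleCat.of A M)
  refine (show Module.FinitePresentation P N ↔ Approx (-2) (Dual.inD P N) from ⟨fun h => ?_, fun h => ?_⟩).trans
    ⟨approx_of_iso (restrictInDIso φ (ModuleCat.of A M)).symm, approx_of_iso (restrictInDIso φ (ModuleCat.of A M))⟩
  · haveI : t.IsLE (Dual.inD P N) 0 := isLE_inD N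
    haveI := h
    refine approx_of_finitePresentation (show (-2 : ℤ) + 1 = -1 by omega) (show (-1 : ℤ) + 1 = 0 by omega) ?_
      (Module.finitePresentation_of_surjective (inDHomologyIso N).toLinearEquiv.symm.toLinearMap
        (inDHomologyIso N).toLinearEquiv.symm.surjective (by rw [LinearEquiv.ker]; exact Submodule.fg_bot))
    haveI := ModuleCat.subsingleton_of_isZero ((DerivedCategory.isGE_iff _ _).1
      (inferInstance : t.IsGE ((DerivedCategory.singleFunctor (ModuleCat.{u} P) 0).obj N) 0) (-1) (by omega))
    exact (inferInstance : Module.Finite P ((DerivedCategory.homologyFunctor (ModuleCat.{u} P) (-1)).obj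
      ((DerivedCategory.singleFunctor (ModuleCat.{u} P) 0).obj N)))
  · haveI := finitePresentation_HD (show (-2 : ℤ) + 1 < 0 by omega) h fun i hi => isZero_homology_inD N hi
    exact (Module.finitePresentation_of_surjective (inDHomologyIso N).toLinearEquiv.toLinearMap
      (inDHomologyIso N).toLinearEquiv.surjective (by rw [LinearEquiv.ker]; exact Submodule.fg_bot))

theorem finite_compHom_iff (hφ : Function.Surjective φ) (M : Type u) [AddCommGroup M] [Module A M] :
    @Module.Finite P M _ _ (Module.compHom M φ) ↔ Module.Finite A M := by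
  letI := φ.toAlgebra
  letI : Module P M := Module.compHom M φ
  haveI : IsScalarTower P A M := ⟨fun p a x => mul_smul (φ p) a x⟩
  haveI : Module.Finite P A := RingHom.Finite.of_surjective φ hφ
  exact ⟨fun h => Module.Finite.of_restrictScalars_finite P A M, fun h => Module.Finite.trans A M⟩

end Groth.Agent.RelPC
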