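import Groth.Agent.RelPC.Module
import Groth.Agent.PseudoCoh.Descent
import Groth.Agent.PseudoCoh.BaseChange
import Groth.Agent.PseudoCoh.BaseChangeAmp
import Groth.Agent.KProjRes.Derived
import Mathlib.RingTheory.IsTensorProduct

/-!
# Flat base change of relative pseudo-coherence
-/

set_option autoImplicit false

universe u

open CategoryTheory CategoryTheory.Limits DerivedCategory DerivedCategory.TStructure
open scoped TensorProduct

attribute [local instance] HasDerivedCategory.standard

noncomputable section

namespace Groth.Agent.RelPC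

open PseudoCoh

section FlatExtend

variable {A B : Type u} [CommRing A] [CommRing B] (φ : A →+* B)

/-- pseudo-coherence along flat extension of complexes -/
theorem approx_flat_extend (hφ : φ.Flat) {K : DRing.Cx A} {d : ℤ} (h : Approx d (DRing.toD K)) :
    Approx d (DRing.toD ((Fc φ).obj K)) := by
  haveI := Groth.Agent.KProjRes.hasLBaseChange φ
  obtain ⟨e⟩ := nonempty_flat_lBaseChangeIso φ hφ K
  exact approx_of_iso e (approx_lBaseChange φ h)

/-- restriction of scalars of a complex -/
def restrictToDIso (K : DRing.Cx B) :
    (DRing.restrictD φ).obj (DRing.toD K) ≅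
      DRing.toD (((ModuleCat.restrictScalars.{u} φ).mapHomologicalComplex (ComplexShape.up ℤ)).obj K) :=
  (ModuleCat.restrictScalars.{u} φ).mapDerivedCategoryFactors.app K

end FlatExtend

section Square

variable {S A S' A' : Type u} [CommRing S] [CommRing A] [CommRing S'] [CommRing A'] (φ : S →+* A) (ψ : S →+* S')
  (φ' : S' →+* A') (ψ' : A →+* A') (sq : ψ'.comp φ = φ'.comp ψ)

/-- restriction along the two sides of a commutative square -/
def squareIso : ModuleCat.restrictScalars.{u} ψ' ⋙ ModuleCat.restrictScalars.{u} φ ≅
    ModuleCat.restrictScalars.{u} φ' ⋙ ModuleCat.restrictScalars.{u} ψ :=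
  (ModuleCat.restrictScalarsComp'.{u} φ ψ' (φ'.comp ψ) sq.symm).symm ≪≫ ModuleCat.restrictScalarsComp.{u} ψ φ'

/-- the base change map of a commutative square -/
def baseChangeNat : ModuleCat.restrictScalars.{u} φ ⋙ ModuleCat.extendScalars.{u, u, u} ψ ⟶
    ModuleCat.extendScalars.{u, u, u} ψ' ⋙ ModuleCat.restrictScalars.{u} φ' where
  app X := ((ModuleCat.extendRestrictScalarsAdj.{u, u, u} ψ).homEquiv _ _).symm
    ((ModuleCat.restrictScalars.{u} φ).map ((ModuleCat.extendRestrictScalarsAdj.{u, u, u} ψ').unit.app X) ≫
      (squareIso φ ψ φ' ψ' sq).hom.app _)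
  naturality {X Y} f := by
    rw [Functor.comp_map, Functor.comp_map, ← Adjunction.homEquiv_naturality_left_symm,
      ← Adjunction.homEquiv_naturality_right_symm]
    congr 1

theorem isIso_baseChangeNat [i₁ : Algebra S A] [i₂ : Algebra S S'] [i₃ : Algebra A A'] [i₄ : Algebra S' A']
    [Algebra S A'] [IsScalarTower S A A'] [IsScalarTower S S' A'] [Algebra.IsPushout S S' A A']
    (h₁ : φ = algebraMap S A) (h₂ : i₂ = ψ.toAlgebra) (h₃ : i₃ = ψ'.toAlgebra) (h₄ : φ' = algebraMap S' A') :
    IsIso (baseChangeNat φ ψ φ' ψ' sq) := by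
  haveI : ∀ X, IsIso ((baseChangeNat φ ψ φ' ψ' sq).app X) := fun X => by
    subst h₂ h₃
    letI := ψ.toAlgebra
    letI := ψ'.toAlgebra
    letI : Module S X := Module.compHom X φ
    haveI : IsScalarTower S A X := IsScalarTower.of_algebraMap_smul fun s x => by subst h₁; rfl
    let f : S' ⊗[S] X → A' ⊗[A] X := fun y => ((baseChangeNat φ ψ φ' ψ' sq).app X).hom y
    have hf : f = ⇑(Algebra.IsPushout.cancelBaseChange S S' A A' X).symm := funext fun y => by
      change ((baseChangeNat φ ψ φ' ψ' sq).app X).hom y = _
      induction y using TensorProduct.induction_on with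
      | zero => exact (map_zero _).trans (map_zero _).symm
      | add p q hp hq => exact (map_add _ p q).trans ((congrArg₂ (· + ·) hp hq).trans (map_add _ p q).symm)
      | tmul s x =>
        rw [Algebra.IsPushout.cancelBaseChange_symm_tmul]
        change φ' s • ((1 : A') ⊗ₜ[A] x) = _
        rw [TensorProduct.smul_tmul', smul_eq_mul, mul_one, h₄]
    refine (ConcreteCategory.isIso_iff_bijective _).2 ?_
    change Function.Bijective f
    rw [hf]
    exact (Algebra.IsPushout.cancelBaseChange S S' A A' X).symm.bijective
  exact NatIso.isIso_of_isIso_app _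

end Square

section Pushout

variable (S A S' A' : Type u) [CommRing S] [CommRing A] [CommRing S'] [CommRing A'] [Algebra S A] [Algebra S S']
  [Algebra A A'] [Algebra S' A'] [Algebra S A'] [IsScalarTower S A A'] [IsScalarTower S S' A']
  [Algebra.IsPushout S S' A A']

/-- base change commutes with restriction in a pushout square -/
def pushoutIso : ModuleCat.restrictScalars.{u} (algebraMap S A) ⋙ ModuleCat.extendScalars.{u, u, u} (algebraMap S S') ≅
    ModuleCat.extendScalars.{u, u, u} (algebraMap A A') ⋙ ModuleCat.restrictScalars.{u} (algebraMap S' A') :=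
  haveI := isIso_baseChangeNat (algebraMap S A) (algebraMap S S') (algebraMap S' A') (algebraMap A A')
    ((IsScalarTower.algebraMap_eq S A A').symm.trans (IsScalarTower.algebraMap_eq S S' A')) rfl
    (Algebra.algebra_ext _ _ fun _ => rfl) (Algebra.algebra_ext _ _ fun _ => rfl) rfl
  asIso (baseChangeNat (algebraMap S A) (algebraMap S S') (algebraMap S' A') (algebraMap A A')
    ((IsScalarTower.algebraMap_eq S A A').symm.trans (IsScalarTower.algebraMap_eq S S' A')))

/-- flat base change in a pushout square preserves pseudo-coherence of restrictions -/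
theorem approx_pushout [Module.Flat S S'] {K : DRing.Cx A} {d : ℤ}
    (h : Approx d ((DRing.restrictD (algebraMap S A)).obj (DRing.toD K))) :
    Approx d ((DRing.restrictD (algebraMap S' A')).obj (DRing.toD ((Fc (algebraMap A A')).obj K))) :=
  approx_of_iso
    (DerivedCategory.Q.mapIso ((NatIso.mapHomologicalComplex (pushoutIso S A S' A') (ComplexShape.up ℤ)).app K) ≪≫
      (restrictToDIso (algebraMap S' A') ((Fc (algebraMap A A')).obj K)).symm)
    (approx_flat_extend (algebraMap S S') (RingHom.flat_algebraMap_iff.2 inferInstance)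
      (approx_of_iso (restrictToDIso (algebraMap S A) K) h))

/-- pseudo-coherent homomorphisms are stable under flat base change -/
theorem pcHom_pushout [Module.Flat S S'] (h : PCHom (algebraMap S A)) : PCHom (algebraMap S' A') := fun d => by
  obtain ⟨e⟩ := nonempty_extendEquiv (A := A) (S := A') (ModuleCat.of A A)
  refine approx_of_iso (restrictInDIso _ _) (approx_of_iso ((DRing.restrictD (algebraMap S' A')).mapIso
    (DerivedCategory.Q.mapIso ((HomologicalComplex.singleMapHomologicalComplex
      (ModuleCat.extendScalars.{u, u, u} (algebraMap A A')) (ComplexShape.up ℤ) 0).app (ModuleCat.of A A)) ≪≫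
      ((DerivedCategory.singleFunctorIsoCompQ (ModuleCat.{u} A') 0).app _).symm ≪≫
      (DerivedCategory.singleFunctor (ModuleCat.{u} A') 0).mapIso
        (X := (ModuleCat.extendScalars.{u, u, u} (algebraMap A A')).obj (ModuleCat.of A A)) (Y := ModuleCat.of A' A')
        (e.trans (TensorProduct.AlgebraTensorModule.rid A A' A')).toModuleIso))
    (approx_pushout S A S' A' (approx_of_iso ((DRing.restrictD (algebraMap S A)).mapIso
      ((DerivedCategory.singleFunctorIsoCompQ (ModuleCat.{u} A) 0).app (ModuleCat.of A A)))
      (approx_of_iso (restrictInDIso _ _).symm (h d)))))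

end Pushout

end Groth.Agent.RelPC
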