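import Groth.Agent.RelPC.Pushout
import Groth.Agent.PseudoCoh.TorAmp
import Mathlib.Algebra.Category.ModuleCat.Monoidal.Basic
import Mathlib.RingTheory.Flat.Basic

/-!
# Derived base change to a relatively pseudo-coherent algebra
-/

set_option autoImplicit false

universe u

open CategoryTheory CategoryTheory.Limits CategoryTheory.MonoidalCategory DerivedCategory DerivedCategory.TStructure

attribute [local instance] HasDerivedCategory.standard

noncomputable section

namespace Groth.Agent.RelPC

open PseudoCoh

variable {A : Type u} [CommRing A]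

/-- tensoring a complex with a module -/
abbrev tensorMod (E : DRing.Cx A) (M : ModuleCat.{u} A) : DRing.Cx A :=
  ((tensorRight M).mapHomologicalComplex (ComplexShape.up ℤ)).obj E

/-- the short exact sequence of complexes obtained by tensoring a flat complex with a short exact sequence -/
def tensorSES (E : DRing.Cx A) (S : ShortComplex (ModuleCat.{u} A)) : ShortComplex (DRing.Cx A) :=
  ShortComplex.mk ((NatTrans.mapHomologicalComplex ((tensoringRight (ModuleCat.{u} A)).map S.f) _).app E)
    ((NatTrans.mapHomologicalComplex ((tensoringRight (ModuleCat.{u} A)).map S.g) _).app E) (by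
    ext i : 1
    change E.X i ◁ S.f ≫ E.X i ◁ S.g = 0
    rw [← MonoidalCategory.whiskerLeft_comp, S.zero, MonoidalPreadditive.whiskerLeft_zero])

theorem tensorSES_shortExact (E : DRing.Cx A) (hE : ∀ i, Module.Flat A (E.X i)) {S : ShortComplex (ModuleCat.{u} A)}
    (hS : S.ShortExact) : (tensorSES E S).ShortExact := by
  refine HomologicalComplex.shortExact_of_degreewise_shortExact _ fun i => ?_
  haveI := hE i
  exact
    { exact := (ShortComplex.moduleCat_exact_iff _).2 fun x hx =>
        (Module.Flat.lTensor_exact (E.X i) ((ShortComplex.ShortExact.moduleCat_exact_iff_function_exact S).1 hS.exact) x).1 hx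
      mono_f := (ModuleCat.mono_iff_injective _).2
        (Module.Flat.lTensor_preserves_injective_linearMap (M := E.X i) S.f.hom hS.moduleCat_injective_f)
      epi_g := (ModuleCat.epi_iff_surjective _).2 (LinearMap.lTensor_surjective (E.X i) hS.moduleCat_surjective_g) }

variable {S : Type u} [CommRing S] (φ : S →+* A)

theorem approx_tensor_free {E : DRing.Cx A} (hE : ∀ i, Module.Flat A (E.X i)) {d : ℤ}
    (h : Approx d ((DRing.restrictD φ).obj (DRing.toD E))) (r : ℕ) :
    Approx d ((DRing.restrictD φ).obj (DRing.toD (tensorMod E (ModuleCat.of A (Fin r → A))))) := by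
  induction r with
  | zero =>
    refine approx_of_isLE (t.isLE_of_isZero ((DRing.restrictD φ).map_isZero (DerivedCategory.Q.map_isZero ?_)) d)
    rw [IsZero.iff_id_eq_zero]
    refine HomologicalComplex.hom_ext _ _ fun i => ?_
    exact (Functor.map_isZero (tensorLeft (E.X i)) (ModuleCat.isZero_of_subsingleton (ModuleCat.of A (Fin 0 → A)))).eq_of_src _ _
  | succ r ih =>
    let f : (Fin (r + 1) → A) →ₗ[A] A := LinearMap.proj 0
    let g : (Fin r → A) →ₗ[A] (Fin (r + 1) → A) := LinearMap.pi (Fin.cases 0 fun j => LinearMap.proj j)
    let T : ShortComplex (ModuleCat.{u} A) := ShortComplex.mk (ModuleCat.ofHom g) (ModuleCat.ofHom f)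
      (ModuleCat.hom_ext (LinearMap.ext fun x => rfl))
    have hT : T.ShortExact :=
      { exact := (ShortComplex.moduleCat_exact_iff _).2 fun x hx => ⟨fun j => x j.succ, funext fun j => by
          induction j using Fin.cases with
          | zero => exact hx.symm
          | succ j => rfl⟩
        mono_f := (ModuleCat.mono_iff_injective _).2 fun x y h => funext fun j => congrFun h j.succ
        epi_g := (ModuleCat.epi_iff_surjective _).2 fun y => ⟨fun _ => y, rfl⟩ }
    refine approx_obj₂ _ ((DRing.restrictD φ).map_distinguished _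
      (DerivedCategory.triangleOfSES_distinguished (tensorSES_shortExact E hE hT))) d ih ?_
    exact approx_of_iso ((DRing.restrictD φ).mapIso (DerivedCategory.Q.mapIso
      ((NatIso.mapHomologicalComplex (rightUnitorNatIso (ModuleCat.{u} A)) _).app E ≪≫
        (Functor.mapHomologicalComplexIdIso (ModuleCat.{u} A) (ComplexShape.up ℤ)).app E))).symm h

/-- tensoring with a pseudo-coherent module -/
theorem approx_tensor {E : DRing.Cx A} {b : ℤ} (hb : ∀ i, b < i → IsZero (E.X i))
    (hE : ∀ i, Module.Flat A (E.X i)) {d : ℤ} (h : Approx d ((DRing.restrictD φ).obj (DRing.toD E)))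
    (M : ModuleCat.{u} A) (hM : ∀ n, Approx n (Dual.inD A M)) :
    Approx d ((DRing.restrictD φ).obj (DRing.toD (tensorMod E M))) := by
  suffices key : ∀ (j : ℕ) (d : ℤ), b ≤ d + j → Approx d ((DRing.restrictD φ).obj (DRing.toD E)) →
      ∀ (M : ModuleCat.{u} A), (∀ n, Approx n (Dual.inD A M)) →
        Approx d ((DRing.restrictD φ).obj (DRing.toD (tensorMod E M))) from key (b - d).toNat d (by omega) h M hM
  intro j
  induction j with
  | zero =>
    intro d hd _ M _
    exact approx_of_isLE ((isLE_restrictD φ).2 (isLE_toD_of_vanishes fun i hi =>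
      (tensorRight M).map_isZero (hb i (by omega))))
  | succ j ih =>
    intro d hd h M hM
    have hfin : Module.Finite A M :=
      haveI := finite_HD (show (-1 : ℤ) + 1 = 0 by omega) (hM _) fun i hi => isZero_homology_inD M hi
      Module.Finite.equiv (inDHomologyIso M).toLinearEquiv
    obtain ⟨r, p, hp⟩ := Module.Finite.exists_fin' A M
    let T : ShortComplex (ModuleCat.{u} A) := ShortComplex.mk (ModuleCat.ofHom (LinearMap.ker p).subtype)
      (X₂ := ModuleCat.of A (Fin r → A)) (ModuleCat.ofHom p) (ModuleCat.hom_ext (LinearMap.ext fun x => x.2))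
    have hT : T.ShortExact :=
      { exact := (ShortComplex.moduleCat_exact_iff _).2 fun x hx => ⟨⟨x, hx⟩, rfl⟩
        mono_f := (ModuleCat.mono_iff_injective _).2 (LinearMap.ker p).subtype_injective
        epi_g := (ModuleCat.epi_iff_surjective _).2 hp }
    have hK : ∀ n, Approx n (Dual.inD A T.X₁) := fun n => by
      have := approx_obj₁ _ hT.singleTriangle_distinguished (n - 1)
        (approx_inD_of_projective (A := A) (Fin r → A) _) (hM (n - 1))
      simpa using this
    exact approx_obj₃ _ ((DRing.restrictD φ).map_distinguished _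
      (DerivedCategory.triangleOfSES_distinguished (tensorSES_shortExact E hE hT))) d
      (ih (d + 1) (by push_cast at hd ⊢; omega) (approx_mono (by omega) h) T.X₁ hK)
      (approx_tensor_free φ hE h r)

/-- extending scalars is tensoring with the algebra -/
def extendRestrictIso {B : Type u} [CommRing B] (β : A →+* B) :
    ModuleCat.extendScalars.{u, u, u} β ⋙ ModuleCat.restrictScalars.{u} β ≅
      tensorRight ((ModuleCat.restrictScalars.{u} β).obj (ModuleCat.of B B)) :=
  NatIso.ofComponents (fun X => by
    letI := β.toAlgebra
    exact LinearEquiv.toModuleIso (X₁ := TensorProduct A B X) (X₂ := TensorProduct A X B)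
      (TensorProduct.comm A B X)) fun {X Y} f => by
    letI := β.toAlgebra
    refine ModuleCat.hom_ext (LinearMap.ext fun z => ?_)
    induction z using TensorProduct.induction_on with
    | zero => exact (map_zero _).trans (map_zero _).symm
    | add p q hp hq => exact (map_add _ p q).trans ((congrArg₂ (· + ·) hp hq).trans (map_add _ p q).symm)
    | tmul b x => rfl

/-- derived base change along a pseudo-coherent extension of a flat base change -/
theorem approx_lBaseChange_via (S A S' A' : Type u) [CommRing S] [CommRing A] [CommRing S'] [CommRing A'] [Algebra S A]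
    [Algebra S S'] [Algebra A A'] [Algebra S' A'] [Algebra S A'] [IsScalarTower S A A'] [IsScalarTower S S' A']
    [Algebra.IsPushout S S' A A'] [Module.Flat S S'] {B : Type u} [CommRing B] (β : A' →+* B) (hβ : PCHom β)
    [DRing.HasLBaseChange (β.comp (algebraMap A A'))] (K : Dual.D A) {d : ℤ}
    (h : Approx d ((DRing.restrictD (algebraMap S A)).obj K)) :
    Approx d ((DRing.restrictD (β.comp (algebraMap S' A'))).obj
      ((DRing.LBaseChange (β.comp (algebraMap A A'))).obj K)) := by
  obtain ⟨b, hb⟩ := exists_isLE h
  obtain ⟨P, hPb, hPp, hPK, ⟨e⟩⟩ := exists_projective_le K b ((isLE_restrictD _).1 hb)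
  haveI := hPK
  let Pc := (Fc (algebraMap A A')).obj P
  have hflat : ∀ i, Module.Flat A' (Pc.X i) := fun i => by
    haveI := hPp i
    haveI : Module.Projective A (P.X i) := (IsProjective.iff_projective (P.X i)).2 inferInstance
    haveI : Module.Flat A (P.X i) := Module.Flat.of_projective
    obtain ⟨e'⟩ := nonempty_extendEquiv (S := A') (P.X i)
    exact Module.Flat.of_linearEquiv e'
  have h1 := approx_tensor (algebraMap S' A') (E := Pc) (b := b)
    (fun i hi => (ModuleCat.extendScalars.{u, u, u} (algebraMap A A')).map_isZero (hPb i hi)) hflat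
    (approx_pushout S A S' A' (approx_of_iso ((DRing.restrictD _).mapIso e).symm h)) _ hβ
  let eB : DRing.toD (tensorMod Pc ((ModuleCat.restrictScalars.{u} β).obj (ModuleCat.of B B))) ≅
      (DRing.restrictD β).obj ((DRing.LBaseChange (β.comp (algebraMap A A'))).obj K) :=
    DerivedCategory.Q.mapIso ((NatIso.mapHomologicalComplex (extendRestrictIso β) (ComplexShape.up ℤ)).app Pc).symm ≪≫
      (restrictToDIso β ((Fc β).obj Pc)).symm ≪≫
      (DRing.restrictD β).mapIso
        (DerivedCategory.Q.mapIso ((NatIso.mapHomologicalComplex (ModuleCat.extendScalarsComp (algebraMap A A') β)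
          (ComplexShape.up ℤ)).app P).symm ≪≫
        (Groth.Agent.KProjRes.lBaseChangeIso (β.comp (algebraMap A A')) P).symm ≪≫
        (DRing.LBaseChange (β.comp (algebraMap A A'))).mapIso e)
  exact approx_of_iso (restrictDCompIso (algebraMap S' A') β _) (approx_of_iso ((DRing.restrictD _).mapIso eB) h1)

end Groth.Agent.RelPC
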