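import Groth.Agent.RelPC.Pushout
import Groth.Agent.PseudoCoh.TorAmp
import Groth.Agent.Flat.TorDim
import Mathlib.Algebra.Category.ModuleCat.Monoidal.Basic
import Mathlib.RingTheory.TensorProduct.MvPolynomial

/-!
# Tor independent base change
-/

set_option autoImplicit false

universe u

open CategoryTheory CategoryTheory.Limits DerivedCategory DerivedCategory.TStructure
open Groth.Agent.Flat.LocalCriterion Groth.Agent.Flat.TorDim
open scoped TensorProduct

attribute [local instance] HasDerivedCategory.standard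

noncomputable section

namespace Groth.Agent.RelPC

open PseudoCoh

variable {R : Type u} [CommRing R] {S Q : ℕ → ModuleCat.{u} R} (s : Syz R (fun i => S i) (fun i => Q i))

/-- `Tor_q(-, S₀)` vanishes for all `q ≥ 1`, in terms of a fixed sequence of syzygies -/
def Acyc (M : Type u) [AddCommGroup M] [Module R M] : Prop := ∀ p, Function.Injective ((s.ι p).lTensor M)

theorem torZero_of_acyc {M : Type u} [AddCommGroup M] [Module R M] (h : Acyc s M) (p : ℕ) : TorZero R M (S p) := by
  haveI := s.flat p
  exact (torZero_iff_of_cover (s.ι p) (s.π p) (s.inj p) (s.exact p) (s.surj p)).2 (h p)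

theorem acyc_of_flat (M : Type u) [AddCommGroup M] [Module R M] [Module.Flat R M] : Acyc s M := fun p =>
  Module.Flat.lTensor_preserves_injective_linearMap _ (s.inj p)

theorem acyc_equiv {M N : Type u} [AddCommGroup M] [Module R M] [AddCommGroup N] [Module R N] (e : M ≃ₗ[R] N)
    (h : Acyc s M) : Acyc s N := fun p x y hxy => by
  have hinj : Function.Injective (e.symm.toLinearMap.rTensor (S (p + 1))) := (e.symm.rTensor (S (p + 1))).injective
  refine hinj (h p ?_)
  rw [← LinearMap.comp_apply, LinearMap.lTensor_comp_rTensor, ← LinearMap.rTensor_comp_lTensor, LinearMap.comp_apply,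
    hxy, ← LinearMap.comp_apply, LinearMap.rTensor_comp_lTensor, ← LinearMap.lTensor_comp_rTensor, LinearMap.comp_apply]

theorem acyc_prod {M N : Type u} [AddCommGroup M] [Module R M] [AddCommGroup N] [Module R N]
    (hM : Acyc s M) (hN : Acyc s N) : Acyc s (M × N) := fun p => by
  rw [injective_iff_map_eq_zero]
  intro z hz
  have h1 : (LinearMap.fst R M N).rTensor (S (p + 1)) z = 0 := hM p (by
    rw [map_zero, ← LinearMap.comp_apply, LinearMap.lTensor_comp_rTensor, ← LinearMap.rTensor_comp_lTensor,
      LinearMap.comp_apply, hz, map_zero])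
  have h2 : (LinearMap.snd R M N).rTensor (S (p + 1)) z = 0 := hN p (by
    rw [map_zero, ← LinearMap.comp_apply, LinearMap.lTensor_comp_rTensor, ← LinearMap.rTensor_comp_lTensor,
      LinearMap.comp_apply, hz, map_zero])
  have hid : (LinearMap.inl R M N) ∘ₗ (LinearMap.fst R M N) + (LinearMap.inr R M N) ∘ₗ (LinearMap.snd R M N) =
      LinearMap.id := LinearMap.ext fun x => by simp
  have h3 := congrArg (fun l => l.rTensor (S (p + 1)) z) hid
  rw [LinearMap.rTensor_add, LinearMap.rTensor_comp, LinearMap.rTensor_comp, LinearMap.add_apply, LinearMap.comp_apply,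
    LinearMap.comp_apply, h1, h2, map_zero, map_zero, add_zero, LinearMap.rTensor_id_apply] at h3
  exact h3.symm

/-- the kernel of a surjection of acyclic modules is acyclic -/
theorem acyc_ker {M N : Type u} [AddCommGroup M] [Module R M] [AddCommGroup N] [Module R N] (f : M →ₗ[R] N)
    (hf : Function.Surjective f) (hM : Acyc s M) (hN : Acyc s N) : Acyc s (LinearMap.ker f) := fun p => by
  have h1 : Function.Injective ((LinearMap.ker f).subtype.rTensor (S (p + 1))) :=
    (LinearMap.lTensor_inj_iff_rTensor_inj _ _).1 ((torZero_symm (torZero_of_acyc s hN (p + 1))).lTensor_injective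
      (Submodule.injective_subtype _) (LinearMap.exact_subtype_ker_map f) hf)
  have h2 : Function.Injective (((LinearMap.ker f).subtype.rTensor (Q p)).comp ((s.ι p).lTensor (LinearMap.ker f))) := by
    rw [LinearMap.rTensor_comp_lTensor, ← LinearMap.lTensor_comp_rTensor, LinearMap.coe_comp]
    exact (hM p).comp h1
  rw [LinearMap.coe_comp] at h2
  exact h2.of_comp

theorem acyc_cycles {E : DRing.Cx R} {b : ℤ} (hb : ∀ i, b < i → IsZero (E.X i)) (hE : ∀ i, Acyc s (E.X i))
    (hx : ∀ i, E.ExactAt i) (n : ℤ) : Acyc s (LinearMap.ker (E.d n (n + 1)).hom) := by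
  obtain ⟨j, hj⟩ : ∃ j : ℕ, b + 1 ≤ n + j := ⟨(b + 1 - n).toNat, by omega⟩
  induction j generalizing n with
  | zero =>
    haveI := ModuleCat.subsingleton_of_isZero (hb n (by omega))
    haveI := Module.Free.of_subsingleton R (LinearMap.ker (E.d n (n + 1)).hom)
    exact acyc_of_flat s _
  | succ j ih =>
    have h1 := acyc_equiv s (LinearEquiv.ofEq _ _ (range_eq_ker E (i := n) rfl rfl (hx (n + 1))).symm)
      (ih (n + 1) (by push_cast at hj ⊢; omega))
    have h := acyc_ker s (E.d n (n + 1)).hom.rangeRestrict (LinearMap.surjective_rangeRestrict _) (hE n) h1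
    rwa [LinearMap.ker_rangeRestrict] at h

/-- a bounded above exact complex of acyclic modules stays exact after tensoring -/
theorem exact_lTensor_of_acyc {E : DRing.Cx R} {b : ℤ} (hb : ∀ i, b < i → IsZero (E.X i)) (hE : ∀ i, Acyc s (E.X i))
    (hx : ∀ i, E.ExactAt i) {i j k : ℤ} (hij : i + 1 = j) (hjk : j + 1 = k) :
    Function.Exact ((E.d i j).hom.lTensor (S 0)) ((E.d j k).hom.lTensor (S 0)) := by
  subst hij; subst hjk
  let q := (E.d (i + 1) (i + 1 + 1)).hom.rangeRestrict
  let ι' := (LinearMap.range (E.d (i + 1) (i + 1 + 1)).hom).subtype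
  have hker : ι'.comp q = (E.d (i + 1) (i + 1 + 1)).hom := rfl
  have hN : Acyc s (E.X (i + 1 + 1) ⧸ LinearMap.range (E.d (i + 1) (i + 1 + 1)).hom) :=
    acyc_equiv s (((Submodule.quotEquivOfEq _ _ (range_eq_ker E rfl rfl (hx (i + 1 + 1)))).trans
      ((E.d (i + 1 + 1) (i + 1 + 1 + 1)).hom.quotKerEquivRange.trans
        (LinearEquiv.ofEq _ _ (range_eq_ker E rfl rfl (hx (i + 1 + 1 + 1)))))).symm)
      (acyc_cycles s hb hE hx _)
  have hinj : Function.Injective (ι'.lTensor (S 0)) := (torZero_symm (torZero_of_acyc s hN 0)).lTensor_injective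
    (Submodule.injective_subtype _) (LinearMap.exact_subtype_mkQ _) (Submodule.mkQ_surjective _)
  have hex : Function.Exact ((E.d i (i + 1)).hom.lTensor (S 0)) (q.lTensor (S 0)) :=
    lTensor_exact (S 0) (fun x => by
      refine Iff.trans ?_ (((ShortComplex.ShortExact.moduleCat_exact_iff_function_exact _).1
        ((E.exactAt_iff' i (i + 1) (i + 1 + 1) (by simp) (by simp)).1 (hx (i + 1)))) x)
      exact ⟨fun h => congrArg Subtype.val h, fun h => Subtype.ext h⟩) (LinearMap.surjective_rangeRestrict _)
  intro x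
  rw [← hker, LinearMap.lTensor_comp, LinearMap.comp_apply, ← map_zero (ι'.lTensor (S 0)), hinj.eq_iff]
  exact hex x

section Main

variable {S A S' A' : Type u} [CommRing S] [CommRing A] [CommRing S'] [CommRing A'] [Algebra S A] [Algebra S S']
  [Algebra A A'] [Algebra S' A'] [Algebra S A'] [IsScalarTower S A A'] [IsScalarTower S S' A']
  [Algebra.IsPushout S S' A A'] {T W : ℕ → ModuleCat.{u} S} (s : Syz S (fun i => T i) (fun i => W i))
  (eS : T 0 ≃ₗ[S] S')

include eS in
theorem exactAt_extend_of_acyc {E : DRing.Cx S} {b : ℤ} (hb : ∀ i, b < i → IsZero (E.X i)) (hE : ∀ i, Acyc s (E.X i))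
    (hx : ∀ i, E.ExactAt i) (j : ℤ) : ((Fc (algebraMap S S')).obj E).ExactAt j := by
  suffices key : ∀ (ψ : S →+* S') (i : Algebra S S'), i = ψ.toAlgebra → (T 0 ≃ₗ[S] (letI := i; S')) →
      ((Fc ψ).obj E).ExactAt j from
    key (algebraMap S S') inferInstance (Algebra.algebra_ext _ _ fun _ => rfl) eS
  rintro ψ i rfl e
  letI := ψ.toAlgebra
  obtain ⟨p, rfl⟩ : ∃ p, p + 1 = j := ⟨j - 1, sub_add_cancel j 1⟩
  have h := exact_lTensor_of_acyc s hb hE hx (i := p) rfl rfl
  let c : ∀ k, E.X k ⊗[S] (T 0) ≃ₗ[S] S' ⊗[S] E.X k := fun k =>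
    (TensorProduct.congr (LinearEquiv.refl S (E.X k)) e).trans (TensorProduct.comm S (E.X k) S')
  have hc : ∀ (a d : ℤ), ((E.d a d).hom.lTensor S') ∘ₗ (c a).toLinearMap =
      (c d).toLinearMap ∘ₗ (E.d a d).hom.rTensor (T 0) := fun a d =>
    TensorProduct.ext' fun x y => rfl
  have h' : Function.Exact ((E.d p (p + 1)).hom.rTensor (T 0)) ((E.d (p + 1) (p + 1 + 1)).hom.rTensor (T 0)) :=
    Function.Exact.of_ladder_linearEquiv_of_exact (e₁ := TensorProduct.comm S _ _) (e₂ := TensorProduct.comm S _ _)
      (e₃ := TensorProduct.comm S _ _) (TensorProduct.ext' fun x y => rfl) (TensorProduct.ext' fun x y => rfl) h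
  have h'' := Function.Exact.of_ladder_linearEquiv_of_exact (e₁ := c p) (e₂ := c (p + 1)) (e₃ := c (p + 1 + 1))
    (hc p (p + 1)) (hc (p + 1) (p + 1 + 1)) h'
  rw [HomologicalComplex.exactAt_iff' _ p (p + 1) (p + 1 + 1) (by simp) (by simp), ShortComplex.moduleCat_exact_iff]
  exact fun y hy => (h'' y).1 hy

include eS in
/-- base change along a tor independent square preserves pseudo-coherence of restrictions -/
theorem approx_lBaseChange_torIndep (hA : ∀ (M : ModuleCat.{u} A), Module.Flat A M →
      Acyc s ((ModuleCat.restrictScalars.{u} (algebraMap S A)).obj M))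
    [DRing.HasLBaseChange (algebraMap A A')] (K : Dual.D A) {d : ℤ}
    (h : Approx d ((DRing.restrictD (algebraMap S A)).obj K)) :
    Approx d ((DRing.restrictD (algebraMap S' A')).obj ((DRing.LBaseChange (algebraMap A A')).obj K)) := by
  haveI := Groth.Agent.KProjRes.hasLBaseChange (algebraMap S S')
  obtain ⟨b, hb⟩ := exists_isLE h
  obtain ⟨P, hPb, hPp, hPK, ⟨e⟩⟩ := exists_projective_le K b ((isLE_restrictD _).1 hb)
  haveI := hPK
  let E := ((ModuleCat.restrictScalars.{u} (algebraMap S A)).mapHomologicalComplex (ComplexShape.up ℤ)).obj P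
  have hEb : ∀ i, b < i → IsZero (E.X i) := fun i hi => (ModuleCat.restrictScalars.{u} (algebraMap S A)).map_isZero (hPb i hi)
  obtain ⟨L, hLb, hLp, hLK, ⟨eL⟩⟩ := exists_projective_le (DRing.toD E) b (isLE_toD_of_vanishes hEb)
  haveI := hLK
  obtain ⟨q, hq⟩ := exists_Q_map (F := E) eL.hom
  have hz : IsZero (DRing.toD (CochainComplex.mappingCone q)) :=
    Pretriangulated.Triangle.isZero₃_of_isIso₁ _ (DerivedCategory.mappingCone_triangle_distinguished q)
      (show IsIso (DerivedCategory.Q.map q) by rw [hq]; infer_instance)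
  have hacyc : ∀ i, Acyc s ((CochainComplex.mappingCone q).X i) := fun i => by
    have h1 : Acyc s (L.X (i + 1)) := by
      haveI := hLp (i + 1)
      haveI : Module.Projective S (L.X (i + 1)) := (IsProjective.iff_projective (L.X (i + 1))).2 inferInstance
      haveI : Module.Flat S (L.X (i + 1)) := Module.Flat.of_projective
      exact acyc_of_flat s _
    have h2 : Acyc s (E.X i) := hA (P.X i) (by
      haveI := hPp i
      haveI : Module.Projective A (P.X i) := (IsProjective.iff_projective (P.X i)).2 inferInstance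
      exact Module.Flat.of_projective)
    exact acyc_equiv s (HomologicalComplex.homotopyCofiber.XIsoBiprod q i (i + 1) rfl ≪≫
      ModuleCat.biprodIsoProd _ _).toLinearEquiv.symm (acyc_prod s h1 h2)
  have hex : ∀ j, ((Fc (algebraMap S S')).obj (CochainComplex.mappingCone q)).ExactAt j :=
    exactAt_extend_of_acyc s eS (b := b) (fun i hi =>
      (CochainComplex.mappingCone.isZero_X_iff q i).2 ⟨hLb _ (by omega), hEb i hi⟩) hacyc fun i =>
      exactAt_of_isLE_toD (n := i - 1) (t.isLE_of_isZero hz _) (by omega)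
  haveI : IsIso (DerivedCategory.Q.map ((Fc (algebraMap S S')).map q)) := by
    refine (Pretriangulated.Triangle.isZero₃_iff_isIso₁ _
      (DerivedCategory.mappingCone_triangle_distinguished ((Fc (algebraMap S S')).map q))).1 ?_
    refine IsZero.of_iso ?_ (DerivedCategory.Q.mapIso
      (CochainComplex.mappingCone.mapHomologicalComplexIso q (ModuleCat.extendScalars.{u, u, u} (algebraMap S S'))).symm)
    change IsZero (DRing.toD ((Fc (algebraMap S S')).obj (CochainComplex.mappingCone q)))
    have : QuasiIso (0 : (Fc (algebraMap S S')).obj (CochainComplex.mappingCone q) ⟶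
        (Fc (algebraMap S S')).obj (CochainComplex.mappingCone q)) :=
      ⟨fun j => (quasiIsoAt_iff_exactAt _ j (hex j)).2 (hex j)⟩
    rw [IsZero.iff_id_eq_zero, ← cancel_epi (DerivedCategory.Q.map (0 : (Fc (algebraMap S S')).obj
      (CochainComplex.mappingCone q) ⟶ (Fc (algebraMap S S')).obj (CochainComplex.mappingCone q))), comp_zero,
      Category.comp_id, Functor.map_zero]
  have h1 : Approx d (DRing.toD ((Fc (algebraMap S S')).obj E)) :=
    approx_of_iso (Groth.Agent.KProjRes.lBaseChangeIso (algebraMap S S') L ≪≫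
      asIso (DerivedCategory.Q.map ((Fc (algebraMap S S')).map q)))
      (approx_lBaseChange (algebraMap S S') (approx_of_iso
        ((DRing.restrictD (algebraMap S A)).mapIso e.symm ≪≫ restrictToDIso (algebraMap S A) P ≪≫ eL.symm) h))
  exact approx_of_iso (DerivedCategory.Q.mapIso ((NatIso.mapHomologicalComplex (pushoutIso S A S' A')
      (ComplexShape.up ℤ)).app P) ≪≫ (restrictToDIso (algebraMap S' A') ((Fc (algebraMap A A')).obj P)).symm ≪≫
    (DRing.restrictD (algebraMap S' A')).mapIso ((Groth.Agent.KProjRes.lBaseChangeIso (algebraMap A A') P).symm ≪≫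
      (DRing.LBaseChange (algebraMap A A')).mapIso e)) h1

end Main

end Groth.Agent.RelPC
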